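import Cfsg.Agent.Lib.TvGen.Irr
import Cfsg.Agent.Lib.Forms.SpGen
import Cfsg.Agent.Lib.Classical.SLBasic

/-!
Transvections in a linear group over a prime field of odd order form a transvection system; the
irreducible case of McLaughlin's theorem.
-/

set_option autoImplicit false

namespace CfsgLib.TvGen

open Module

section General

variable {F : Type*} [Field F] {V : Type*} [AddCommGroup V] [Module F V]

/-- The transvection with centre `v` and axis `φ` lies in `H`. -/
def Tv (H : Subgroup (V ≃ₗ[F] V)) (v : V) (φ : Dual F V) : Prop :=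
  φ v = 0 ∧ ∃ g ∈ H, ∀ x, g x = x + φ x • v

theorem Tv.zl (H : Subgroup (V ≃ₗ[F] V)) (φ : Dual F V) : Tv H 0 φ :=
  ⟨by simp, 1, H.one_mem, by simp⟩

theorem Tv.zr (H : Subgroup (V ≃ₗ[F] V)) (v : V) : Tv H v 0 :=
  ⟨by simp, 1, H.one_mem, by simp⟩

theorem tv_inv_apply {g : V ≃ₗ[F] V} {v : V} {φ : Dual F V} (h0 : φ v = 0)
    (hg : ∀ x, g x = x + φ x • v) (x : V) : g⁻¹ x = x - φ x • v := by
  apply g.injective
  rw [← LinearEquiv.mul_apply, mul_inv_cancel, hg]
  simp [h0]

theorem tv_pow_apply {g : V ≃ₗ[F] V} {v : V} {φ : Dual F V} (h0 : φ v = 0)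
    (hg : ∀ x, g x = x + φ x • v) (n : ℕ) (x : V) : (g ^ n) x = x + ((n : F) * φ x) • v := by
  induction n with
  | zero => simp
  | succ n ih =>
    rw [pow_succ', LinearEquiv.mul_apply, ih, hg]
    simp only [map_add, map_smul, h0, smul_zero, add_zero]
    push_cast
    rw [add_mul, one_mul, add_smul, add_assoc]

theorem Tv.conj_mem {H : Subgroup (V ≃ₗ[F] V)} {v : V} {φ : Dual F V} (h : Tv H v φ)
    {g : V ≃ₗ[F] V} (hg : g ∈ H) : Tv H (g v) (φ ∘ₗ (g⁻¹ : V ≃ₗ[F] V)) := by
  obtain ⟨h0, t, ht, ht'⟩ := h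
  refine ⟨?_, g * t * g⁻¹, H.mul_mem (H.mul_mem hg ht) (H.inv_mem hg), fun x => ?_⟩
  · show φ (g⁻¹ (g v)) = 0
    rw [← LinearEquiv.mul_apply, inv_mul_cancel]; exact h0
  · rw [LinearEquiv.mul_apply, LinearEquiv.mul_apply, ht', map_add, map_smul,
      ← LinearEquiv.mul_apply, mul_inv_cancel]
    rfl

/-- A group containing all transvections contains the special linear group. -/
theorem mem_of_det_eq_one [FiniteDimensional F V] (G : Subgroup (V ≃ₗ[F] V))
    (h : ∀ (v : V) (φ : Dual F V), φ v = 0 → Tv G v φ) (f : V ≃ₗ[F] V)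
    (hf : LinearMap.det (f : V →ₗ[F] V) = 1) : f ∈ G := by
  classical
  let b := Module.finBasis F V
  let e := Matrix.SpecialLinearGroup.toLin_equiv b
  have key : ∀ A, ((e A : SpecialLinearGroup F V) : V ≃ₗ[F] V) ∈ G := by
    refine Classical.sl_transvection_induction _ ?_ ?_ ?_
    · rw [map_one]; exact G.one_mem
    · intro i j hij c
      obtain ⟨-, g, hg, hg'⟩ := h (b i) (c • b.coord j) (by simp [hij.symm, Finsupp.single_apply])
      suffices H : ((e (Matrix.SpecialLinearGroup.transvection hij c) : SpecialLinearGroup F V) :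
        V ≃ₗ[F] V) = g by rw [H]; exact hg
      refine LinearEquiv.toLinearMap_injective (b.ext fun k => ?_)
      have h1 := Matrix.SpecialLinearGroup.toLin_equiv.toLinearMap_eq b
        (Matrix.SpecialLinearGroup.transvection hij c)
      refine (LinearMap.congr_fun h1 (b k)).trans ?_
      rw [LinearEquiv.coe_coe, hg', Matrix.toLin_self, Matrix.SpecialLinearGroup.transvection_coe]
      simp only [Matrix.add_apply, Matrix.one_apply, Matrix.single_apply, add_smul, ite_smul,
        one_smul, zero_smul, Finset.sum_add_distrib, Finset.sum_ite_eq', Finset.mem_univ, if_true,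
        LinearMap.smul_apply, Basis.coord_apply, Basis.repr_self, smul_eq_mul, add_right_inj]
      by_cases hk : k = j
      · subst hk; simp
      · simp [hk, Ne.symm hk]
    · intro A B hA hB
      rw [map_mul]; exact G.mul_mem hA hB
  have hf' : LinearEquiv.det f = 1 := by
    rw [← Units.val_inj, LinearEquiv.coe_det, hf]; rfl
  have := key (e.symm ⟨f, hf'⟩)
  rwa [MulEquiv.apply_symm_apply] at this

theorem det_of_tv [FiniteDimensional F V] {g : V ≃ₗ[F] V} {v : V} {φ : Dual F V} (h0 : φ v = 0)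
    (hg : ∀ x, g x = x + φ x • v) : LinearMap.det (g : V →ₗ[F] V) = 1 := by
  have : (g : V →ₗ[F] V) = LinearMap.transvection φ v :=
    LinearMap.ext fun x => by rw [LinearMap.transvection.apply]; exact hg x
  rw [this, LinearMap.transvection.det, h0, add_zero]

/-- The irreducible case. -/
theorem eq_sl_or_sp [FiniteDimensional F V] (h2 : (2 : F) ≠ 0) (G : Subgroup (V ≃ₗ[F] V))
    (hI : Irr (Tv G))
    (hgen : G ≤ Subgroup.closure {g | ∃ v φ, Nd (Tv G) v φ ∧ ∀ x, g x = x + φ x • v}) :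
    (G : Set (V ≃ₗ[F] V)) = {f : V ≃ₗ[F] V | LinearMap.det (f : V →ₗ[F] V) = 1} ∨
      ∃ B : LinearMap.BilinForm F V, B.IsAlt ∧ B.Nondegenerate ∧
        (G : Set (V ≃ₗ[F] V)) = {f : V ≃ₗ[F] V | ∀ x y, B (f x) (f y) = B x y} := by
  rcases hI.dichotomy h2 with h | ⟨B, hA, hB, h1, h3⟩
  · left
    ext f
    refine ⟨fun hf => ?_, mem_of_det_eq_one G h f⟩
    have : f ∈ (LinearEquiv.det : (V ≃ₗ[F] V) →* Fˣ).ker := by
      refine (Subgroup.closure_le _).2 ?_ (hgen hf)
      rintro g ⟨v, φ, hv, hg⟩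
      show LinearEquiv.det g = 1
      rw [← Units.val_inj, LinearEquiv.coe_det, det_of_tv hv.1.1 hg]; rfl
    have h4 : LinearEquiv.det f = 1 := this
    show LinearMap.det (f : V →ₗ[F] V) = 1
    rw [← LinearEquiv.coe_det, h4]; rfl
  · right
    have hle : G ≤ (Forms.ofAlt B hA).isom := by
      refine hgen.trans ((Subgroup.closure_le _).2 ?_)
      rintro g ⟨v, φ, hv, hg⟩
      obtain ⟨d, rfl⟩ := h3 v φ hv
      refine (Forms.ofAlt_isIso B hA g).2 fun x y => ?_
      rw [hg, hg]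
      simp only [map_add, map_smul, LinearMap.add_apply, LinearMap.smul_apply, smul_eq_mul,
        hA.self_eq_zero, ← hA.neg_eq x v]
      ring
    refine ⟨B, hA, hB, Set.ext fun f => ⟨fun hf => (Forms.ofAlt_isIso B hA f).1 (hle hf),
      fun hf => ?_⟩⟩
    refine Forms.alt_mem_of_transvections B hA hB G hle ?_ f ((Forms.ofAlt_isIso B hA f).2 hf)
    intro g x d hg
    obtain ⟨-, t, ht, ht'⟩ := hI.ts.smr d (h1 x)
    convert ht using 1
    ext v
    rw [hg, ht']; simp

end General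

section Prime

variable {p : ℕ} [Fact p.Prime] {V : Type*} [AddCommGroup V] [Module (ZMod p) V]

theorem two_ne_zero_of_odd (hp : Odd p) : (2 : ZMod p) ≠ 0 := by
  intro h
  have : ((2 : ℕ) : ZMod p) = 0 := by exact_mod_cast h
  rw [ZMod.natCast_eq_zero_iff] at this
  have h2 := (Nat.prime_dvd_prime_iff_eq Fact.out Nat.prime_two).1 this
  subst h2
  exact absurd hp (by decide)

theorem Tv.smr {H : Subgroup (V ≃ₗ[ZMod p] V)} {v : V} {φ : Dual (ZMod p) V} (c : ZMod p)
    (h : Tv H v φ) : Tv H v (c • φ) := by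
  obtain ⟨h0, g, hg, hg'⟩ := h
  refine ⟨by simp [h0], g ^ c.val, H.pow_mem hg _, fun x => ?_⟩
  rw [tv_pow_apply h0 hg']
  simp

theorem ts_tv (h2 : (2 : ZMod p) ≠ 0) (H : Subgroup (V ≃ₗ[ZMod p] V)) :
    TS (LinearMap.id : Dual (ZMod p) V →ₗ[ZMod p] V →ₗ[ZMod p] ZMod p) (Tv H) where
  inc := fun h => h.1
  sml := by
    intro v φ c h
    obtain ⟨-, g, hg, hg'⟩ := h.smr c
    exact ⟨by simp [h.1], g, hg, fun x => by rw [hg']; simp [smul_smul, mul_comm]⟩
  smr := fun c h => h.smr c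
  adl := by
    rintro v w φ ⟨h0, g, hg, hg'⟩ ⟨h1, k, hk, hk'⟩
    refine ⟨by simp [h0, h1], g * k, H.mul_mem hg hk, fun x => ?_⟩
    rw [LinearEquiv.mul_apply, hk', hg']
    simp only [map_add, map_smul, h1, smul_zero, add_zero, smul_add]
    abel
  adr := by
    rintro v φ ψ ⟨h0, g, hg, hg'⟩ ⟨h1, k, hk, hk'⟩
    refine ⟨by simp [h0, h1], g * k, H.mul_mem hg hk, fun x => ?_⟩
    rw [LinearEquiv.mul_apply, hk', hg']
    simp only [map_add, map_smul, h0, smul_zero, add_zero, LinearMap.add_apply, add_smul]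
    abel
  conj := by
    rintro y η u χ h1 ⟨h0, g, hg, hg'⟩
    have := h1.conj_mem hg
    rw [hg'] at this
    have e : η - η u • χ = η ∘ₗ (g⁻¹ : V ≃ₗ[ZMod p] V) := by
      ext x
      show _ = η (g⁻¹ x)
      rw [tv_inv_apply h0 hg']
      simp [mul_comm]
    rw [← e] at this
    exact this
  heis := by
    intro x φ w ψ y η h1 h2' h3 a1 a2 a3 a4 a5 a6
    simp only [LinearMap.id_apply] at a1 a2 a3 a4 a5 a6
    obtain ⟨b1, g1, hg1, e1⟩ := h1
    obtain ⟨b2, g2, hg2, e2⟩ := h2'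
    obtain ⟨b3, g3, hg3, e3⟩ := h3
    have e3' := tv_inv_apply b3 e3
    have hq : ∀ v, (g1 * g2) v = v + φ v • x + ψ v • w := by
      intro v
      rw [LinearEquiv.mul_apply, e2, e1]
      simp only [map_add, map_smul, a1, smul_zero, add_zero]
      abel
    have hq' : ∀ v, (g3 * (g1 * g2) * g3⁻¹) v =
        v + (φ v - η v) • (x + y) + (ψ v - η v) • (w - y) := by
      intro v
      rw [LinearEquiv.mul_apply, LinearEquiv.mul_apply, hq, e3', e3]
      simp only [map_add, map_sub, map_smul, a3, a4, a5, a6, b3, smul_eq_mul]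
      module
    set q := g1 * g2
    set q' := g3 * q * g3⁻¹
    have hqH : q ∈ H := H.mul_mem hg1 hg2
    have hqH' : q' ∈ H := H.mul_mem (H.mul_mem hg3 hqH) (H.inv_mem hg3)
    clear_value q q'
    have key : Tv H (x + w) ((2 : ZMod p) • (φ - ψ)) := by
      refine ⟨by simp [a1, a2, b1, b2], q * q' * (q' * q)⁻¹,
        H.mul_mem (H.mul_mem hqH hqH') (H.inv_mem (H.mul_mem hqH' hqH)), fun v => ?_⟩
      obtain ⟨v, rfl⟩ := (q' * q).surjective v
      rw [LinearEquiv.mul_apply, ← LinearEquiv.mul_apply (q' * q)⁻¹, inv_mul_cancel,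
        LinearEquiv.coe_one, id, LinearEquiv.mul_apply, LinearEquiv.mul_apply]
      simp only [hq, hq']
      simp only [map_add, map_sub, map_smul, a1, a2, a3, a4, a5, a6, b1, b2, b3, smul_eq_mul,
        LinearMap.smul_apply, LinearMap.sub_apply]
      module
    have := key.smr (2 : ZMod p)⁻¹
    rwa [smul_smul, inv_mul_cancel₀ h2, one_smul] at this

/-- An element of order `p` fixing a hyperplane pointwise is a transvection. -/
theorem exists_tv_of_order [Finite V] {t : V ≃ₗ[ZMod p] V} (ho : orderOf t = p)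
    (hk : finrank (ZMod p) ↥(LinearMap.ker ((t : V →ₗ[ZMod p] V) - LinearMap.id)) + 1 =
      finrank (ZMod p) V) :
    ∃ (v : V) (φ : Dual (ZMod p) V), φ v = 0 ∧ v ≠ 0 ∧ φ ≠ 0 ∧ ∀ x, t x = x + φ x • v := by
  set f := (t : V →ₗ[ZMod p] V) - LinearMap.id with hf
  have hr : finrank (ZMod p) ↥(LinearMap.range f) = 1 := by
    have := LinearMap.finrank_range_add_finrank_ker f
    omega
  obtain ⟨v, hv0, hv⟩ := finrank_eq_one_iff'.1 hr
  have hv0' : (v : V) ≠ 0 := fun e => hv0 (Subtype.ext e)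
  let e := LinearEquiv.toSpanNonzeroSingleton (ZMod p) V (v : V) hv0'
  have hmem : ∀ x, f x ∈ Submodule.span (ZMod p) {(v : V)} := by
    intro x
    obtain ⟨c, hc⟩ := hv ⟨f x, x, rfl⟩
    exact Submodule.mem_span_singleton.2 ⟨c, congrArg Subtype.val hc⟩
  let φ : Dual (ZMod p) V := e.symm.toLinearMap ∘ₗ f.codRestrict _ hmem
  have hφ : ∀ x, t x = x + φ x • (v : V) := by
    intro x
    have : φ x • (v : V) = f x := by
      have h1 : ((e (φ x) : Submodule.span (ZMod p) {(v : V)}) : V) = φ x • (v : V) := rfl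
      rw [← h1]
      simp [φ]
    rw [this, hf]; simp
  refine ⟨v, φ, ?_, hv0', ?_, hφ⟩
  · have h1 : ∀ n : ℕ, (t ^ n) v = (1 + φ v) ^ n • (v : V) := by
      intro n
      induction n with
      | zero => simp
      | succ n ih =>
        rw [pow_succ', LinearEquiv.mul_apply, ih, map_smul, hφ, pow_succ, mul_smul, add_smul,
          one_smul]
    have h2 := h1 p
    have h3 : t ^ p = 1 := orderOf_dvd_iff_pow_eq_one.1 (dvd_of_eq ho)
    rw [h3, ZMod.pow_card, add_smul, one_smul] at h2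
    have : φ v • (v : V) = 0 := by simpa using h2.symm
    exact (smul_eq_zero.1 this).resolve_right hv0'
  · intro h0
    obtain ⟨x, hx⟩ := v.2
    apply hv0'
    rw [← hx, hf]
    simp [hφ, h0]

end Prime

end CfsgLib.TvGen
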