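import Mathlib

/-!
Groups generated by full transvection subgroups: the abstract incidence system of centres and
axes.  In a connected system the centres and the axes form subspaces.
-/

set_option autoImplicit false

namespace CfsgLib.TvGen

variable {F : Type*} [Field F] {V V' : Type*} [AddCommGroup V] [Module F V]
  [AddCommGroup V'] [Module F V']

/-- A system of (centre, axis) pairs with the closure rules of transvections in a group. -/
structure TS (b : V' →ₗ[F] V →ₗ[F] F) (S : V → V' → Prop) : Prop where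
  inc : ∀ {v φ}, S v φ → b φ v = 0
  sml : ∀ {v φ} (c : F), S v φ → S (c • v) φ
  smr : ∀ {v φ} (c : F), S v φ → S v (c • φ)
  adl : ∀ {v w φ}, S v φ → S w φ → S (v + w) φ
  adr : ∀ {v φ ψ}, S v φ → S v ψ → S v (φ + ψ)
  conj : ∀ {y η u χ}, S y η → S u χ → S (y + b χ y • u) (η - b η u • χ)
  heis : ∀ {x φ w ψ y η}, S x φ → S w ψ → S y η → b φ w = 0 → b ψ x = 0 → b φ y = 1 →
    b ψ y = 1 → b η x = 1 → b η w = -1 → S (x + w) (φ - ψ)

/-- Non-degenerate pairs. -/
def Nd (S : V → V' → Prop) (v : V) (φ : V') : Prop := S v φ ∧ v ≠ 0 ∧ φ ≠ 0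

/-- Arrows between non-degenerate pairs. -/
def Arr (b : V' →ₗ[F] V →ₗ[F] F) (S : V → V' → Prop) (p q : V × V') : Prop :=
  Nd S p.1 p.2 ∧ Nd S q.1 q.2 ∧ b q.2 p.1 ≠ 0

/-- Strong connectedness, without isolated pairs. -/
structure Con (b : V' →ₗ[F] V →ₗ[F] F) (S : V → V' → Prop) : Prop where
  reach : ∀ {v φ w ψ}, Nd S v φ → Nd S w ψ → Relation.ReflTransGen (Arr b S) (v, φ) (w, ψ)
  out : ∀ {v φ}, Nd S v φ → ∃ y η, Nd S y η ∧ b η v ≠ 0
  inn : ∀ {v φ}, Nd S v φ → ∃ y η, Nd S y η ∧ b φ y ≠ 0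

variable {b : V' →ₗ[F] V →ₗ[F] F} {S : V → V' → Prop}

theorem TS.flip (h : TS b S) : TS b.flip (fun φ v => S v φ) where
  inc := fun hs => h.inc hs
  sml := fun c hs => h.smr c hs
  smr := fun c hs => h.sml c hs
  adl := fun h1 h2 => h.adr h1 h2
  adr := fun h1 h2 => h.adl h1 h2
  conj := by
    intro η y χ u h1 h2
    have := h.conj h1 (h.sml (-1) h2)
    simp only [LinearMap.flip_apply]
    convert this using 1
    · simp [sub_eq_add_neg]
    · simp
  heis := by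
    intro φ x ψ w η y h1 h2 h3 a1 a2 a3 a4 a5 a6
    simp only [LinearMap.flip_apply] at a1 a2 a3 a4 a5 a6
    have := h.heis h1 (h.smr (-1) (h.sml (-1) h2)) h3 (by simp [a2]) (by simp [a1]) a5
      (by simp [a6]) a3 (by simp [a4])
    convert this using 1
    · simp [sub_eq_add_neg]
    · simp

theorem Con.flip (h : Con b S) : Con b.flip (fun φ v => S v φ) where
  reach := by
    intro φ v ψ w h1 h2
    have := h.reach (v := w) (φ := ψ) (w := v) (ψ := φ) ⟨h2.1, h2.2.2, h2.2.1⟩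
      ⟨h1.1, h1.2.2, h1.2.1⟩
    have key : ∀ p q : V × V', Relation.ReflTransGen (Arr b S) p q →
        Relation.ReflTransGen (Arr b.flip (fun φ v => S v φ)) (q.2, q.1) (p.2, p.1) := by
      intro p q hpq
      induction hpq with
      | refl => exact Relation.ReflTransGen.refl
      | @tail r s _ hab ih =>
        have : Arr b.flip (fun φ v => S v φ) (s.2, s.1) (r.2, r.1) :=
          ⟨⟨hab.2.1.1, hab.2.1.2.2, hab.2.1.2.1⟩, ⟨hab.1.1, hab.1.2.2, hab.1.2.1⟩, hab.2.2⟩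
        exact Relation.ReflTransGen.head this ih
    exact key _ _ this
  out := by
    intro φ v h1
    obtain ⟨y, η, h2, h3⟩ := h.inn (v := v) (φ := φ) ⟨h1.1, h1.2.2, h1.2.1⟩
    exact ⟨η, y, ⟨h2.1, h2.2.2, h2.2.1⟩, h3⟩
  inn := by
    intro φ v h1
    obtain ⟨y, η, h2, h3⟩ := h.out (v := v) (φ := φ) ⟨h1.1, h1.2.2, h1.2.1⟩
    exact ⟨η, y, ⟨h2.1, h2.2.2, h2.2.1⟩, h3⟩

namespace TS

variable (h : TS b S)
include h

theorem sbl {v w : V} {φ : V'} (h1 : S v φ) (h2 : S w φ) : S (v - w) φ := by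
  have := h.adl h1 (h.sml (-1) h2)
  rwa [neg_one_smul, ← sub_eq_add_neg] at this

theorem conjc {y u : V} {η χ : V'} (h1 : S y η) (h2 : S u χ) (c : F) :
    S (y + (c * b χ y) • u) (η - (c * b η u) • χ) := by
  have := h.conj h1 (h.sml c h2)
  convert this using 2
  · rw [smul_smul, mul_comm]
  · simp

/-- The commutator rule. -/
theorem comm {y u : V} {η χ : V'} (h1 : S y η) (h2 : S u χ) (a : b χ y ≠ 0) (a' : b η u = 0) :
    S u η := by
  have h3 := h.conjc h1 h2 (b χ y)⁻¹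
  rw [a', mul_zero, zero_smul, sub_zero, inv_mul_cancel₀ a, one_smul] at h3
  simpa using h.sbl h3 h1

theorem nd_conjc {y u : V} {η χ : V'} (h1 : Nd S y η) (h2 : S u χ) (c : F) :
    Nd S (y + (c * b χ y) • u) (η - (c * b η u) • χ) := by
  refine ⟨h.conjc h1.1 h2 c, fun h0 => h1.2.1 ?_, fun h0 => h1.2.2 ?_⟩
  · have := congrArg (b χ) h0
    simp only [map_add, map_smul, h.inc h2, smul_zero, add_zero, map_zero] at this
    simpa [this] using h0
  · have := congrArg (fun x => b x u) h0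
    simp only [map_sub, map_smul, LinearMap.sub_apply, LinearMap.smul_apply, h.inc h2, smul_zero,
      sub_zero, map_zero, LinearMap.zero_apply] at this
    simpa [this] using h0

theorem nd_sml {y : V} {η : V'} (h1 : Nd S y η) {c : F} (hc : c ≠ 0) : Nd S (c • y) η :=
  ⟨h.sml c h1.1, smul_ne_zero hc h1.2.1, h1.2.2⟩

theorem nd_smr {y : V} {η : V'} (h1 : Nd S y η) {c : F} (hc : c ≠ 0) : Nd S y (c • η) :=
  ⟨h.smr c h1.1, h1.2.1, smul_ne_zero hc h1.2.2⟩

end TS

theorem exists_ne_zero_add_ne (h2 : (2 : F) ≠ 0) {a : F} (ha : a ≠ 0) (d : F) :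
    ∃ c : F, c ≠ 0 ∧ a + c * d ≠ 0 := by
  by_cases h : a + d = 0
  · refine ⟨-1, by simp, fun h' => h2 ?_⟩
    have : 2 * a = 0 := by linear_combination h + h'
    exact (mul_eq_zero.1 this).resolve_right ha
  · exact ⟨1, one_ne_zero, by simpa using h⟩

/-- The centres off a hyperplane span the span of all centres. -/
theorem Con.mem_span (h : TS b S) (hc : Con b S) (h2 : (2 : F) ≠ 0) (P : V → V' → Prop)
    (hP : ∀ {y η u χ}, Nd S y η → P y η → Nd S u χ →
      ∃ c : F, c ≠ 0 ∧ P (y + (c * b χ y) • u) (η - (c * b η u) • χ))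
    {y η} (hy : Nd S y η) (hPy : P y η) {u χ} (hu : Nd S u χ) :
    u ∈ Submodule.span F {y | ∃ η, Nd S y η ∧ P y η} := by
  have key : ∀ q : V × V', Relation.ReflTransGen (Arr b S) (y, η) q →
      q.1 ∈ Submodule.span F {y | ∃ η, Nd S y η ∧ P y η} := by
    intro q hq
    induction hq with
    | refl => exact Submodule.subset_span ⟨η, hy, hPy⟩
    | @tail p q _ hab ih =>
      obtain ⟨-, hq, hne⟩ := hab
      have : ∃ y', (∃ η, Nd S y' η ∧ P y' η) ∧ b q.2 y' ≠ 0 := by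
        by_contra hcon
        push Not at hcon
        apply hne
        have : Submodule.span F {y | ∃ η, Nd S y η ∧ P y η} ≤ LinearMap.ker (b q.2) :=
          Submodule.span_le.2 fun y' hy' => hcon y' hy'
        exact this ih
      obtain ⟨y', ⟨η', hy', hP'⟩, hne'⟩ := this
      obtain ⟨c, hc0, hc⟩ := hP hy' hP' hq
      have m1 : y' + (c * b q.2 y') • q.1 ∈ Submodule.span F {y | ∃ η, Nd S y η ∧ P y η} :=
        Submodule.subset_span ⟨_, h.nd_conjc hy' hq.1 c, hc⟩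
      have m2 : y' ∈ Submodule.span F {y | ∃ η, Nd S y η ∧ P y η} :=
        Submodule.subset_span ⟨_, hy', hP'⟩
      have m3 := Submodule.sub_mem _ m1 m2
      rw [add_sub_cancel_left] at m3
      exact (Submodule.smul_mem_iff _ (mul_ne_zero hc0 hne')).1 m3
  exact key _ (hc.reach hy hu)

theorem Con.exists_off_two (h : TS b S) (hc : Con b S) (h2 : (2 : F) ≠ 0) {x w : V} {φ ψ : V'}
    (hx : Nd S x φ) (hw : Nd S w ψ) : ∃ y η, Nd S y η ∧ b φ y ≠ 0 ∧ b ψ y ≠ 0 := by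
  obtain ⟨y, η, hy, hy'⟩ := hc.inn hx
  obtain ⟨u, χ, hu, hu'⟩ := hc.inn hw
  have := hc.mem_span h h2 (fun y _ => b φ y ≠ 0) (by
    intro y η u χ _ hP _
    obtain ⟨c, hc0, hc⟩ := exists_ne_zero_add_ne h2 hP (b χ y * b φ u)
    exact ⟨c, hc0, by simpa [mul_assoc] using hc⟩) hy hy' hu
  by_contra hcon
  push Not at hcon
  apply hu'
  have hle : Submodule.span F {y | ∃ η, Nd S y η ∧ b φ y ≠ 0} ≤ LinearMap.ker (b ψ) :=
    Submodule.span_le.2 fun y' ⟨η', h1, h2⟩ => hcon y' η' h1 h2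
  exact hle this

/-- The sum of two centres is zero or a centre. -/
theorem Con.add_centre (h : TS b S) (hc : Con b S) (h2 : (2 : F) ≠ 0) {x w : V} {φ ψ : V'}
    (hx : Nd S x φ) (hw : Nd S w ψ) (hne : x + w ≠ 0) : ∃ ζ, Nd S (x + w) ζ := by
  by_cases a1 : b ψ x = 0
  swap
  · have := h.nd_conjc hx hw.1 (b ψ x)⁻¹
    rw [inv_mul_cancel₀ a1, one_smul] at this
    exact ⟨_, this⟩
  by_cases a2 : b φ w = 0
  swap
  · have := h.nd_conjc hw hx.1 (b φ w)⁻¹
    rw [inv_mul_cancel₀ a2, one_smul, add_comm] at this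
    exact ⟨_, this⟩
  obtain ⟨y, η, hy, b1, b2⟩ := hc.exists_off_two h h2 hx hw
  have hx' := h.nd_smr hx (inv_ne_zero b1)
  have hw' := h.nd_smr hw (inv_ne_zero b2)
  set φ' := (b φ y)⁻¹ • φ with hφ'
  set ψ' := (b ψ y)⁻¹ • ψ with hψ'
  have c1 : b φ' y = 1 := by simp [hφ', b1]
  have c2 : b ψ' y = 1 := by simp [hψ', b2]
  have c3 : b ψ' x = 0 := by simp [hψ', a1]
  have c4 : b φ' w = 0 := by simp [hφ', a2]
  clear_value φ' ψ'
  by_cases d1 : b η (x + w) = 0
  swap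
  · have e1 := h.nd_conjc hy hx'.1 1
    rw [c1, mul_one, one_smul] at e1
    have e2 := h.nd_conjc e1 hw'.1 1
    rw [map_add, c2, c3, add_zero, mul_one, one_smul, add_assoc] at e2
    have e3 := h.nd_conjc e2 hy.1 (-(b η (x + w))⁻¹)
    rw [map_add (b η) y, h.inc hy.1, zero_add, neg_mul, inv_mul_cancel₀ d1, neg_one_smul,
      add_neg_cancel_comm] at e3
    exact ⟨_, e3⟩
  by_cases d2 : b η x = 0
  · have d3 : b η w = 0 := by simpa [d2] using d1
    exact ⟨η, h.adl (h.comm hy.1 hx'.1 (by simp [c1]) d2) (h.comm hy.1 hw'.1 (by simp [c2]) d3),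
      hne, hy.2.2⟩
  · have d3 : b η w = -b η x := by
      rw [map_add] at d1; linear_combination d1
    have := h.heis hx'.1 hw'.1 (h.smr (b η x)⁻¹ hy.1) c4 c3 c1 c2 (by simp [d2])
      (by simp [d3, d2])
    by_cases e : φ' - ψ' = 0
    · rw [sub_eq_zero] at e
      subst e
      exact ⟨φ', h.adl hx'.1 hw'.1, hne, hx'.2.2⟩
    · exact ⟨_, this, hne, e⟩

/-- Every non-zero vector in the span of the centres is a centre. -/
theorem Con.centre_of_mem_span (h : TS b S) (hc : Con b S) (h2 : (2 : F) ≠ 0) {v : V}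
    (hv : v ∈ Submodule.span F {y | ∃ η, Nd S y η}) (hv0 : v ≠ 0) : ∃ η, Nd S v η := by
  suffices H : v = 0 ∨ ∃ η, Nd S v η from H.resolve_left hv0
  clear hv0
  induction hv using Submodule.span_induction with
  | mem x hx => exact Or.inr hx
  | zero => exact Or.inl rfl
  | add x w _ _ ihx ihw =>
    rcases ihx with rfl | ⟨φ, hx⟩
    · simpa using ihw
    rcases ihw with rfl | ⟨ψ, hw⟩
    · exact Or.inr ⟨φ, by simpa using hx⟩
    by_cases h0 : x + w = 0
    · exact Or.inl h0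
    · exact Or.inr (hc.add_centre h h2 hx hw h0)
  | smul c x _ ih =>
    by_cases hc0 : c = 0
    · left; simp [hc0]
    rcases ih with rfl | ⟨φ, hx⟩
    · left; simp
    · exact Or.inr ⟨φ, h.nd_sml hx hc0⟩

/-- Every non-zero vector in the span of the axes is an axis. -/
theorem Con.axis_of_mem_span (h : TS b S) (hc : Con b S) (h2 : (2 : F) ≠ 0) {φ : V'}
    (hv : φ ∈ Submodule.span F {η | ∃ y, Nd S y η}) (hv0 : φ ≠ 0) : ∃ y, Nd S y φ := by
  have e : {η | ∃ y, Nd S y η} = {η | ∃ y, Nd (fun φ v => S v φ) η y} := by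
    ext η
    exact ⟨fun ⟨y, h⟩ => ⟨y, h.1, h.2.2, h.2.1⟩, fun ⟨y, h⟩ => ⟨y, h.1, h.2.2, h.2.1⟩⟩
  rw [e] at hv
  obtain ⟨y, hy⟩ := hc.flip.centre_of_mem_span h.flip h2 hv hv0
  exact ⟨y, hy.1, hy.2.2, hy.2.1⟩

end CfsgLib.TvGen
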