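import Cfsg.Agent.Lib.TvGen.Abs

/-!
Irreducible transvection systems: either every incident pair occurs, or the pairs are those of a
non-degenerate alternating form.
-/

set_option autoImplicit false

namespace CfsgLib.TvGen

open Module

variable {F : Type*} [Field F] {V V' : Type*} [AddCommGroup V] [Module F V]
  [AddCommGroup V'] [Module F V']

theorem Con.exists_opp {b : V' →ₗ[F] V →ₗ[F] F} {S : V → V' → Prop} (h : TS b S) (hc : Con b S)
    (h2 : (2 : F) ≠ 0) {w u : V} {ψ χ : V'} (hw : Nd S w ψ) (hu : Nd S u χ) :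
    ∃ y η, Nd S y η ∧ b η w ≠ 0 ∧ b χ y ≠ 0 := by
  obtain ⟨y, η, hy, hy'⟩ := hc.out hw
  obtain ⟨x, φ, hx, hx'⟩ := hc.inn hu
  have := hc.mem_span h h2 (fun _ η => b η w ≠ 0) (by
    intro y η u χ _ hP _
    obtain ⟨c, hc0, hc⟩ := exists_ne_zero_add_ne h2 hP (-(b η u * b χ w))
    refine ⟨c, hc0, ?_⟩
    simp only [map_sub, map_smul, LinearMap.sub_apply, LinearMap.smul_apply, smul_eq_mul]
    convert hc using 1
    ring) hy hy' hx
  by_contra hcon
  push Not at hcon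
  apply hx'
  have hle : Submodule.span F {y | ∃ η, Nd S y η ∧ b η w ≠ 0} ≤ LinearMap.ker (b χ) :=
    Submodule.span_le.2 fun y' ⟨η', h1, h2⟩ => hcon y' η' h1 h2
  exact hle this

/-- An irreducible system on a space and its dual. -/
structure Irr (S : V → Dual F V → Prop) : Prop where
  ts : TS (LinearMap.id : Dual F V →ₗ[F] V →ₗ[F] F) S
  zl : ∀ φ, S 0 φ
  zr : ∀ v, S v 0
  cen : ∀ v, v ≠ 0 → ∃ φ, Nd S v φ
  ax : ∀ φ, φ ≠ 0 → ∃ v, Nd S v φ
  opp : ∀ (w : V) (χ : Dual F V), w ≠ 0 → χ ≠ 0 → ∃ y η, S y η ∧ η w ≠ 0 ∧ χ y ≠ 0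

namespace Irr

variable {S : V → Dual F V → Prop} (h : Irr S)
include h

theorem inc {v : V} {φ : Dual F V} (a : S v φ) : φ v = 0 := h.ts.inc a

theorem comm {y u : V} {η χ : Dual F V} (h1 : S y η) (h2 : S u χ) (a : χ y ≠ 0) (a' : η u = 0) :
    S u η := h.ts.comm h1 h2 a a'

theorem conjc {y u : V} {η χ : Dual F V} (h1 : S y η) (h2 : S u χ) (c : F) :
    S (y + (c * χ y) • u) (η - (c * η u) • χ) := h.ts.conjc h1 h2 c

/-- The axes through a centre. -/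
def A (w : V) : Submodule F (Dual F V) where
  carrier := {φ | S w φ}
  add_mem' := fun a b => h.ts.adr a b
  zero_mem' := h.zr w
  smul_mem' := fun c _ a => h.ts.smr c a

theorem mem_A {w : V} {φ : Dual F V} : φ ∈ h.A w ↔ S w φ := Iff.rfl

theorem good_spread {w y : V} {η : Dual F V} (hw : ∀ φ : Dual F V, φ w = 0 → S w φ) (hy : S y η)
    (hη : η w ≠ 0) (φ : Dual F V) (hφ : φ y = 0) : S y φ := by
  have h1 : S w (φ - (φ w / η w) • η) := hw _ (by simp [hη])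
  have h2 := h.comm h1 hy hη (by simp [hφ, h.inc hy])
  have := h.ts.adr h2 (h.ts.smr (φ w / η w) hy)
  simpa using this

theorem all_of_two [FiniteDimensional F V]
    (h2 : ∃ w, w ≠ 0 ∧ ∀ y, ∃ ψ : Dual F V, S w ψ ∧ ψ ≠ 0 ∧ ψ y = 0) (v : V) (φ : Dual F V)
    (hφ : φ v = 0) : S v φ := by
  obtain ⟨D, ⟨w, hw0, rfl, hw⟩, hmax⟩ := (wellFounded_gt (α := Submodule F (Dual F V))).has_min
    {D | ∃ w, w ≠ 0 ∧ D = h.A w ∧ ∀ y, ∃ ψ : Dual F V, S w ψ ∧ ψ ≠ 0 ∧ ψ y = 0}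
    (by obtain ⟨w, h0, h1⟩ := h2; exact ⟨_, w, h0, rfl, h1⟩)
  have good : ∀ χ : Dual F V, χ w = 0 → S w χ := by
    intro χ hχ
    by_contra hn
    have hχ0 : χ ≠ 0 := by rintro rfl; exact hn (h.zr w)
    obtain ⟨u, hu⟩ := h.ax χ hχ0
    have Du : ∀ ψ, S w ψ → ψ u = 0 := fun ψ hψ => by
      by_contra hne
      exact hn (h.comm hu.1 hψ hne hχ)
    have F2 : ∀ y η ψ χ', S y η → η w ≠ 0 → S w ψ → ψ y = 0 → S u χ' → χ' y ≠ 0 → S u ψ :=
      fun y η ψ χ' a1 a2 a3 a4 a5 a6 => h.comm (h.comm a3 a1 a2 a4) a5 a6 (Du ψ a3)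
    obtain ⟨y0, η0, a1, a2, a3⟩ := h.opp w χ hw0 hχ0
    obtain ⟨ψ0, b1, b2, b3⟩ := hw y0
    have c0 := F2 _ _ _ _ a1 a2 b1 b3 hu.1 a3
    obtain ⟨y1, η1, d1, d2, d3⟩ := h.opp w ψ0 hw0 b2
    have hle : h.A w ≤ h.A u := by
      intro ψ hψ
      have e1 : S w (ψ - (ψ y1 / ψ0 y1) • ψ0) := (h.A w).sub_mem hψ ((h.A w).smul_mem _ b1)
      have e2 := F2 _ _ _ _ d1 d2 e1 (by simp [d3]) c0 d3
      have := h.ts.adr e2 (h.ts.smr (ψ y1 / ψ0 y1) c0)
      rw [mem_A]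
      simpa using this
    refine hmax (h.A u) ⟨u, hu.2.1, rfl, fun y => ?_⟩ (lt_of_le_of_ne hle fun e => hn ?_)
    · obtain ⟨ψ, e1, e2, e3⟩ := hw y
      exact ⟨ψ, hle e1, e2, e3⟩
    · have : χ ∈ h.A u := hu.1
      rwa [← e] at this
  by_cases hv : v = 0
  · subst hv; exact h.zl φ
  obtain ⟨ξ, hξ⟩ := h.cen v hv
  obtain ⟨y, η, a1, a2, a3⟩ := h.opp w ξ hw0 hξ.2.2
  exact h.good_spread (h.good_spread good a1 a2) hξ.1 a3 φ hφ

theorem exists_form (h2 : (2 : F) ≠ 0) [Nontrivial V]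
    (h1 : ∀ w, w ≠ 0 → ∃ y, ∀ ψ : Dual F V, S w ψ → ψ y = 0 → ψ = 0) :
    ∃ B : LinearMap.BilinForm F V, B.IsAlt ∧ B.Nondegenerate ∧ (∀ x, S x (B x)) ∧
      ∀ v φ, Nd S v φ → ∃ d : F, φ = d • B v := by
  have uniq : ∀ {w : V} {φ ψ : Dual F V}, Nd S w φ → S w ψ → ∃ c : F, ψ = c • φ := by
    intro w φ ψ a1 a2
    obtain ⟨y, hy⟩ := h1 w a1.2.1
    have hφ : φ y ≠ 0 := fun e => a1.2.2 (hy φ a1.1 e)
    refine ⟨ψ y / φ y, sub_eq_zero.1 (hy _ ?_ (by simp [hφ]))⟩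
    exact (h.A w).sub_mem a2 ((h.A w).smul_mem _ a1.1)
  have refl : ∀ {v w : V} {φ ψ : Dual F V}, Nd S v φ → Nd S w ψ → φ w = 0 → ψ v = 0 := by
    intro v w φ ψ a1 a2 a3
    by_contra hne
    obtain ⟨c, hc⟩ := uniq a2 (h.comm a1.1 a2.1 hne a3)
    have := h.inc a1.1
    rw [hc, LinearMap.smul_apply, smul_eq_mul, mul_eq_zero] at this
    rcases this with rfl | e
    · exact a1.2.2 (by simpa using hc)
    · exact hne e
  obtain ⟨e, he0⟩ := exists_ne (0 : V)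
  obtain ⟨ε, he⟩ := h.cen e he0
  have hex : ∀ v : {v : V // ε v ≠ 0}, ∃ β : Dual F V, S v β ∧ β e = -ε v := by
    rintro ⟨v, hv⟩
    obtain ⟨φ, hφ⟩ := h.cen v (by rintro rfl; simp at hv)
    have : φ e ≠ 0 := fun e0 => hv (refl hφ he e0)
    exact ⟨(-ε v / φ e) • φ, h.ts.smr _ hφ.1, by simp [this]⟩
  choose β hβ hβe using hex
  have nd : ∀ {v : V} {γ : Dual F V}, ε v ≠ 0 → S v γ → γ e = -ε v → Nd S v γ := by
    intro v γ a1 a2 a3
    refine ⟨a2, by rintro rfl; simp at a1, ?_⟩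
    rintro rfl
    exact a1 (by simpa using a3)
  have un : ∀ (v : {v : V // ε v ≠ 0}) (γ : Dual F V), S v γ → γ e = -ε v → γ = β v := by
    intro v γ a1 a2
    obtain ⟨c, hc⟩ := uniq (nd v.2 (hβ v) (hβe v)) a1
    have : c = 1 := by
      rw [hc, LinearMap.smul_apply, hβe, smul_eq_mul] at a2
      exact mul_right_cancel₀ (neg_ne_zero.2 v.2) (by rw [a2, one_mul])
    rw [hc, this, one_smul]
  have anti : ∀ v v' : {v : V // ε v ≠ 0}, β v v' = -β v' v := by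
    intro v v'
    have a1 := h.conjc (hβ v') he.1 (-(β v v' / ε v) / -ε v')
    have hv := v.2
    have hv' := v'.2
    have e1 : -(β v v' / ε v) / -ε v' * ε v' = β v v' / ε v := by field_simp
    have e2 : -(β v v' / ε v) / -ε v' * β v' e = -(β v v' / ε v) := by rw [hβe]; field_simp
    rw [e1, e2] at a1
    have a2 := nd (by simpa [h.inc he.1] using hv') a1 (by simp [h.inc he.1, hβe])
    have a3 := refl (nd hv (hβ v) (hβe v)) a2 (by simp [hβe]; field_simp; ring)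
    rw [LinearMap.sub_apply, LinearMap.smul_apply, smul_eq_mul, neg_mul,
      div_mul_cancel₀ _ hv] at a3
    linear_combination a3
  have hspan : Submodule.span F {v : V | ε v ≠ 0} = ⊤ := by
    obtain ⟨f, hf⟩ : ∃ f, ε f ≠ 0 := by
      by_contra hc
      push Not at hc
      exact he.2.2 (LinearMap.ext hc)
    refine eq_top_iff.2 fun x _ => ?_
    by_cases hx : ε x = 0
    · have m1 : x + f ∈ Submodule.span F {v : V | ε v ≠ 0} :=
        Submodule.subset_span (by simpa [hx] using hf)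
      have m2 : f ∈ Submodule.span F {v : V | ε v ≠ 0} := Submodule.subset_span hf
      simpa using Submodule.sub_mem _ m1 m2
    · exact Submodule.subset_span hx
  let R : Dual F V →ₗ[F] ({v : V // ε v ≠ 0} → F) :=
    LinearMap.pi fun s => LinearMap.applyₗ (R := F) (s : V)
  let Ψ : V →ₗ[F] ({v : V // ε v ≠ 0} → F) := LinearMap.pi fun s => -β s
  have hR : LinearMap.ker R = ⊥ := by
    refine eq_bot_iff.2 fun γ hγ => ?_
    rw [Submodule.mem_bot]
    exact LinearMap.ext_on hspan fun x hx => congrFun hγ ⟨x, hx⟩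
  obtain ⟨L, hL⟩ := LinearMap.exists_leftInverse_of_injective R hR
  let B : LinearMap.BilinForm F V := L ∘ₗ Ψ
  have hB : ∀ s : {v : V // ε v ≠ 0}, B s = β s := by
    intro s
    have : Ψ s = R (β s) := by
      funext s'
      simp [Ψ, R, anti s s']
    show L (Ψ s) = β s
    rw [this]
    exact LinearMap.congr_fun hL (β s)
  have hanti : ∀ x y, B x y = -B y x := by
    have : B = -B.flip := by
      refine LinearMap.ext_on hspan fun x hx => LinearMap.ext_on hspan fun y hy => ?_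
      have := anti ⟨x, hx⟩ ⟨y, hy⟩
      rw [← hB, ← hB] at this
      simpa using this
    intro x y
    conv_lhs => rw [this]
    simp
  have hA : B.IsAlt := by
    intro x
    have : 2 * B x x = 0 := by linear_combination hanti x x
    exact (mul_eq_zero.1 this).resolve_left h2
  have hN : ∀ v, v ≠ 0 → Nd S v (B v) := by
    intro v hv
    by_cases hε : ε v = 0
    · obtain ⟨φ, hφ⟩ := h.cen v hv
      obtain ⟨s, hs, hφs⟩ : ∃ s, ε s ≠ 0 ∧ φ s ≠ 0 := by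
        by_contra hc
        push Not at hc
        exact hφ.2.2 (LinearMap.ext_on hspan hc)
      have ns := nd hs (hβ ⟨s, hs⟩) (hβe ⟨s, hs⟩)
      have b1 : β ⟨s, hs⟩ v ≠ 0 := fun e0 => hφs (refl ns hφ e0)
      have a1 := h.conjc (hβ ⟨s, hs⟩) hφ.1 (φ s)⁻¹
      rw [inv_mul_cancel₀ hφs, one_smul] at a1
      have hsv : ε (s + v) ≠ 0 := by simpa [hε] using hs
      have a2 := un ⟨s + v, hsv⟩ _ a1 (by simp [hβe, refl he hφ hε, hε])
      rw [← hB, ← hB] at a2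
      have a3 : B v = ((-((φ s)⁻¹ * β ⟨s, hs⟩ v) : F)) • φ := by
        simp only [map_add] at a2
        rw [← hB, neg_smul ((φ s)⁻¹ * B s v) φ]
        exact (add_left_cancel (a2.symm.trans (sub_eq_add_neg _ _)))
      rw [a3]
      exact h.ts.nd_smr hφ (neg_ne_zero.2 (mul_ne_zero (inv_ne_zero hφs) b1))
    · rw [hB ⟨v, hε⟩]
      exact nd hε (hβ ⟨v, hε⟩) (hβe ⟨v, hε⟩)
  refine ⟨B, hA, hA.isRefl.nondegenerate_iff_separatingLeft.2 fun x hx => ?_, fun x => ?_,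
    fun v φ hv => uniq (hN v hv.2.1) hv.1⟩
  · by_contra hx0
    exact (hN x hx0).2.2 (LinearMap.ext hx)
  · by_cases hx : x = 0
    · subst hx; exact h.zl _
    · exact (hN x hx).1

theorem dichotomy [FiniteDimensional F V] (h2 : (2 : F) ≠ 0) :
    (∀ (v : V) (φ : Dual F V), φ v = 0 → S v φ) ∨
    ∃ B : LinearMap.BilinForm F V, B.IsAlt ∧ B.Nondegenerate ∧ (∀ x, S x (B x)) ∧
      ∀ v φ, Nd S v φ → ∃ d : F, φ = d • B v := by
  rcases subsingleton_or_nontrivial V with hV | hV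
  · left
    intro v φ _
    rw [Subsingleton.elim v 0]
    exact h.zl φ
  by_cases h1 : ∃ w, w ≠ 0 ∧ ∀ y, ∃ ψ : Dual F V, S w ψ ∧ ψ ≠ 0 ∧ ψ y = 0
  · exact Or.inl (h.all_of_two h1)
  · right
    refine h.exists_form h2 fun w hw => ?_
    by_contra hc
    push Not at hc
    refine h1 ⟨w, hw, fun y => ?_⟩
    obtain ⟨ψ, a, b, c⟩ := hc y
    exact ⟨ψ, a, c, b⟩

end Irr

end CfsgLib.TvGen
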